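import Groth.Agent.NLAmp.MinGen
import Groth.Prelude.Def_LCI2
import Groth.Agent.KoszulExt.MinLength
import Groth.Agent.KoszulExt.Regular
import Groth.Agent.KoszulExt.Homology
import Groth.Agent.CAlgReg.GlobalDim
import Groth.Agent.CAlgH.Vasconcelos
import Groth.Agent.FlatSlice.Seq
import Groth.Agent.S2189

/-!
# Koszul-regular ideals and flat conormal modules
-/

set_option autoImplicit false

noncomputable section

universe u

open IsLocalRing RingTheory.Sequence

namespace Groth.Agent.NLAmp

theorem ofList_ofFn {R : Type u} [CommRing R] {r : ℕ} (f : Fin r → R) :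
    Ideal.ofList (List.ofFn f) = Ideal.span (Set.range f) := by
  rw [Ideal.ofList]; congr 1; ext x; exact List.mem_ofFn

section LocalBases

variable {P : Type u} [CommRing P] {I : Ideal P}

/-- Koszul-regular ideals have local bases. -/
theorem hasLocalBases_of_isKoszulRegularIdeal (h : LCI.IsKoszulRegularIdeal I) : HasLocalBases I := by
  intro q hq hIq
  obtain ⟨g, hg, l, hl, hspan⟩ := h ⟨q, hq⟩ hIq
  refine ⟨g, hg, ?_⟩
  let L := Localization.Away g
  obtain ⟨r, f, rfl⟩ : ∃ (r : ℕ) (f : Fin r → L), l = List.ofFn f := ⟨_, l.get, (List.ofFn_get l).symm⟩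
  have hspan' : I.map (algebraMap P L) = Ideal.span (Set.range f) := hspan.trans (ofList_ofFn f)
  have hfm : ∀ j, f j ∈ I.map (algebraMap P L) := fun j => hspan'.ge (Ideal.subset_span ⟨j, rfl⟩)
  choose w hw using fun j => (IsLocalization.mem_map_algebraMap_iff (Submonoid.powers g) L).1 (hfm j)
  let a : Fin r → P := fun j => (w j).1.1
  let u : Fin r → L := fun j => algebraMap P L (w j).2
  have hu : ∀ j, IsUnit (u j) := fun j => IsLocalization.map_units L (w j).2
  have hau : ∀ j, algebraMap P L (a j) = u j * f j := fun j => (hw j).symm.trans (mul_comm _ _)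
  have hspana : Ideal.span (Set.range fun j => algebraMap P L (a j)) = I.map (algebraMap P L) := by
    rw [hspan']
    refine le_antisymm (Ideal.span_le.2 ?_) (Ideal.span_le.2 ?_)
    · rintro _ ⟨j, rfl⟩
      show algebraMap P L (a j) ∈ _
      rw [hau]
      exact Ideal.mul_mem_left _ _ (Ideal.subset_span ⟨j, rfl⟩)
    · rintro _ ⟨j, rfl⟩
      refine (Ideal.unit_mul_mem_iff_mem _ (hu j)).1 ?_
      rw [← hau]
      exact Ideal.subset_span ⟨j, rfl⟩
  have hex : KoszulExt.IsExact fun j => algebraMap P L (a j) := by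
    refine ((KoszulExt.isExact_iff f).2 hl).of_matrix (Matrix.diagonal u) (fun i => ?_) ?_
    · simp [Matrix.diagonal, hau]
    · refine eq_top_iff.2 (le_trans (le_of_eq ?_) le_sup_right)
      rw [eq_comm, Ideal.span_singleton_eq_top, Matrix.det_diagonal]
      exact (Finset.prod_induction _ IsUnit (fun _ _ => IsUnit.mul) isUnit_one fun j _ => hu j)
  refine ⟨r, a, fun j => (w j).1.2, fun z hz => ?_, fun c hc => ?_⟩
  · obtain ⟨c, hc⟩ := Ideal.mem_span_range_iff_exists_fun.1 (hspana.ge (Ideal.mem_map_of_mem _ hz))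
    obtain ⟨⟨t, M, rfl⟩, ht⟩ := IsLocalization.exist_integer_multiples_of_finite (Submonoid.powers g) c
    choose b hb using ht
    have h1 : algebraMap P L (g ^ M * z) = algebraMap P L (∑ j, b j * a j) := by
      simp only [map_mul, map_sum, hb, ← hc, Algebra.smul_def, Finset.mul_sum, mul_assoc]
    obtain ⟨⟨_, K, rfl⟩, hK⟩ := (IsLocalization.eq_iff_exists (Submonoid.powers g) L).1 h1
    refine ⟨K + M, fun j => g ^ K * b j, ?_⟩
    simpa [pow_add, mul_assoc, Finset.mul_sum] using hK
  · have haI : ∀ j, algebraMap P L (a j) ∈ I.map (algebraMap P L) := fun j => Ideal.mem_map_of_mem _ (w j).1.2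
    obtain ⟨B, hB⟩ := KoszulExt.exists_basis_cotangent (I := I.map (algebraMap P L))
      (fun j => ⟨algebraMap P L (a j), haI j⟩) hex hspana
    have h0 : ∑ j, algebraMap L (L ⧸ I.map (algebraMap P L)) (algebraMap P L (c j)) • B j = 0 := by
      simp only [hB, algebraMap_smul, ← map_smul, ← map_sum]
      rw [Ideal.toCotangent_eq_zero]
      simp only [AddSubmonoidClass.coe_finsetSum, Submodule.coe_smul_of_tower, Algebra.smul_def, ← map_mul, ← map_sum, ← Ideal.map_pow]
      exact Ideal.mem_map_of_mem _ hc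
    have h1 := fun j => Ideal.Quotient.eq_zero_iff_mem.1 (Fintype.linearIndependent_iff.1 B.linearIndependent _ h0 j)
    choose t ht htc using fun j => (IsLocalization.algebraMap_mem_map_algebraMap_iff (Submonoid.powers g) L I (c j)).1 (h1 j)
    choose N hN using ht
    refine ⟨∑ j, N j, fun j => ?_⟩
    have hle : N j ≤ ∑ j, N j := Finset.single_le_sum (fun _ _ => Nat.zero_le _) (Finset.mem_univ j)
    rw [← Nat.sub_add_cancel hle, pow_add, mul_assoc, show g ^ N j = t j from hN j]
    exact Ideal.mul_mem_left _ _ (htc j)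

end LocalBases

section Converse

variable {A : Type u} [CommRing A] {n : ℕ}

local notation "P" => MvPolynomial (Fin n) A

/-- The regular sequence in the fibre. -/
theorem exists_regular_generators {S : Type u} [CommRing S] [IsLocalRing S] (pS J : Ideal S) (hJ : J ≠ ⊤) (hJfg : J.FG)
    [IsRegularLocalRing (S ⧸ pS)] (hp : pS ≤ maximalIdeal S) {r : ℕ} (x : Fin r → S) (hx : Ideal.span (Set.range x) = J)
    (hind : ∀ a : Fin r → S, ∑ i, a i * x i ∈ J ^ 2 → ∀ i, a i ∈ J) (hinter : J ⊓ pS ≤ pS * J) :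
    ∃ y : Fin r → S, Ideal.span (Set.range y) = J ∧ IsWeaklyRegular (S ⧸ pS) (List.ofFn fun i => Ideal.Quotient.mk pS (y i)) := by
  classical
  let π := Ideal.Quotient.mk pS
  have hπ : Function.Surjective π := Ideal.Quotient.mk_surjective
  let J' := J.map π
  have hJ' : J' ≠ ⊤ := fun h => by
    have h1 := Ideal.comap_map_of_surjective π hπ J
    rw [show J.map π = ⊤ from h, Ideal.comap_top, ← RingHom.ker_eq_comap_bot, Ideal.mk_ker] at h1
    exact (maximalIdeal.isMaximal S).ne_top (top_le_iff.1 (h1 ▸ sup_le (le_maximalIdeal hJ) hp))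
  have hxm : ∀ i, π (x i) ∈ J' := fun i => Ideal.mem_map_of_mem _ (hx.le (Ideal.subset_span ⟨i, rfl⟩))
  have hspan' : Ideal.span (Set.range fun i => π (x i)) = J' := by
    rw [show (Set.range fun i => π (x i)) = π '' Set.range x from Set.range_comp _ _, ← Ideal.map_span, hx]
  have hind' : ∀ a : Fin r → S ⧸ pS, ∑ i, a i * π (x i) ∈ J' ^ 2 → ∀ i, a i ∈ J' := by
    intro a ha
    choose b hb using fun i => hπ (a i)
    simp only [← hb, ← map_mul, ← map_sum, J', ← Ideal.map_pow] at ha
    obtain ⟨w, hw, hwe⟩ := (Ideal.mem_map_iff_of_surjective π hπ).1 ha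
    have hzJ : ∑ i, b i * x i - w ∈ J :=
      sub_mem (Ideal.sum_mem _ fun i _ => Ideal.mul_mem_left _ _ (hx.le (Ideal.subset_span ⟨i, rfl⟩)))
        (Ideal.pow_le_self two_ne_zero hw)
    have hzp : ∑ i, b i * x i - w ∈ pS := Ideal.Quotient.eq.1 hwe.symm
    have hz := hinter ⟨hzJ, hzp⟩
    rw [← hx] at hz
    obtain ⟨c, hc, hsum⟩ := (Submodule.mem_ideal_smul_span_iff_exists_sum pS x _).1 hz
    rw [Finsupp.sum_fintype _ _ (fun _ => by simp)] at hsum
    intro i
    have h1 : ∀ i, b i - c i ∈ J := hind _ (by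
      simp only [sub_mul, Finset.sum_sub_distrib]
      simp only [smul_eq_mul] at hsum
      rw [hsum, sub_sub_cancel]
      exact hw)
    rw [← hb, ← sub_zero (π (b i)), ← Ideal.Quotient.eq_zero_iff_mem.2 (hc i), ← map_sub]
    exact Ideal.mem_map_of_mem _ (h1 i)
  let f : Fin r → J' := fun i => ⟨π (x i), hxm i⟩
  have : Nontrivial ((S ⧸ pS) ⧸ J') := Ideal.Quotient.nontrivial_iff.mpr hJ'
  obtain ⟨B, hB⟩ : ∃ B : Module.Basis (Fin r) ((S ⧸ pS) ⧸ J') J'.Cotangent, ∀ i, B i = J'.toCotangent (f i) := by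
    have hli : LinearIndependent ((S ⧸ pS) ⧸ J') fun i => J'.toCotangent (f i) := by
      rw [Fintype.linearIndependent_iff]
      intro c hc i
      choose a ha using fun j => Ideal.Quotient.mk_surjective (c j)
      simp only [← ha, ← Ideal.Quotient.algebraMap_eq, algebraMap_smul, ← map_smul, ← map_sum,
        Ideal.toCotangent_eq_zero, AddSubmonoidClass.coe_finsetSum, SetLike.val_smul, smul_eq_mul] at hc
      rw [← ha i]
      exact Ideal.Quotient.eq_zero_iff_mem.2 (hind' a hc i)
    have hsp : ⊤ ≤ Submodule.span ((S ⧸ pS) ⧸ J') (Set.range fun i => J'.toCotangent (f i)) := by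
      rintro z -
      obtain ⟨⟨e, he⟩, rfl⟩ := J'.toCotangent_surjective z
      obtain ⟨c, hc⟩ := Ideal.mem_span_range_iff_exists_fun.1 (hspan'.ge he)
      have : (⟨e, he⟩ : J') = ∑ j, c j • f j := Subtype.ext (by simp [f, hc])
      rw [this, map_sum]
      refine Submodule.sum_mem _ fun j _ => ?_
      rw [map_smul, ← algebraMap_smul ((S ⧸ pS) ⧸ J')]
      exact Submodule.smul_mem _ _ (Submodule.subset_span ⟨j, rfl⟩)
    exact ⟨Module.Basis.mk hli hsp, fun i => by rw [Module.Basis.mk_apply]⟩
  obtain ⟨d, hd⟩ : ∃ d : ℕ, ringKrullDim (S ⧸ pS) = d := ⟨_, IsRegularLocalRing.spanFinrank_maximalIdeal.symm⟩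
  obtain ⟨x', hxx, hx'⟩ := CAlgH.Vasconcelos.exists_regular_lift r (S ⧸ pS) J' hJ' d
    (CAlgReg.pdLT_of_isRegularLocalRing hd J')
    (B.equivFun.toLinearMap.restrictScalars (S ⧸ pS) ∘ₗ J'.toCotangent) f (fun i => by
      rw [LinearMap.comp_apply, ← hB]
      funext j
      rw [LinearMap.restrictScalars_apply, LinearEquiv.coe_coe, B.equivFun_apply, B.repr_self,
        Finsupp.single_apply, Pi.single_apply]
      simp only [eq_comm])
  choose w hw hwe using fun i => (Ideal.mem_map_iff_of_surjective π hπ).1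
    (show x' i - π (x i) ∈ (J ^ 2).map π by rw [Ideal.map_pow]; exact hxx i)
  refine ⟨fun i => x i + w i, le_antisymm (Ideal.span_le.2 ?_) ?_, ?_⟩
  · rintro _ ⟨i, rfl⟩
    exact add_mem (hx.le (Ideal.subset_span ⟨i, rfl⟩)) (Ideal.pow_le_self two_ne_zero (hw i))
  · refine Submodule.le_of_le_smul_of_le_jacobson_bot hJfg
      ((le_maximalIdeal hJ).trans (maximalIdeal_le_jacobson ⊥)) ?_
    rw [smul_eq_mul, ← pow_two]
    conv_lhs => rw [← hx]
    refine Ideal.span_le.2 ?_
    rintro _ ⟨i, rfl⟩
    rw [show x i = (x i + w i) - w i by ring]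
    exact sub_mem (Submodule.mem_sup_left (Ideal.subset_span ⟨i, rfl⟩)) (Submodule.mem_sup_right (hw i))
  · rw [show (fun i => Ideal.Quotient.mk pS (x i + w i)) = x' from funext fun i => by
      show π (x i + w i) = _
      rw [map_add, hwe]; ring]
    exact hx'

theorem unit_seq_regular {R : Type u} [CommRing R] {r : ℕ} (y : Fin r → R) (u : Fin r → R) (hu : ∀ i, IsUnit (u i))
    (h : IsWeaklyRegular R (List.ofFn y)) : IsWeaklyRegular R (List.ofFn fun i => y i * u i) := by
  rw [S2189.weaklyRegular_iff] at h ⊢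
  have hs : ∀ i, Ideal.span ((fun i => y i * u i) '' Set.Iio i) = Ideal.span (y '' Set.Iio i) := by
    refine fun i => le_antisymm (Ideal.span_le.2 ?_) (Ideal.span_le.2 ?_)
    · rintro _ ⟨j, hj, rfl⟩
      exact Ideal.mul_mem_right _ _ (Ideal.subset_span ⟨j, hj, rfl⟩)
    · rintro _ ⟨j, hj, rfl⟩
      exact (Ideal.mul_unit_mem_iff_mem _ (hu j)).1 (Ideal.subset_span ⟨j, hj, rfl⟩)
  intro i w hw
  rw [hs] at hw ⊢
  refine h i w ((Ideal.mul_unit_mem_iff_mem _ (hu i)).1 ?_)
  rwa [mul_right_comm]

/-- Generators with regular image in the fibre give a Koszul-regular sequence on a basic open. -/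
theorem exists_koszulRegular_nhd (I : Ideal P) (hI : I.FG) (q : Ideal P) [hq : q.IsPrime] {r : ℕ}
    (y : Fin r → Localization.AtPrime q)
    (hyJ : Ideal.span (Set.range y) = I.map (algebraMap P (Localization.AtPrime q)))
    (hyreg : IsWeaklyRegular
      (Localization.AtPrime q ⧸ (q.comap (algebraMap A P)).map (algebraMap A (Localization.AtPrime q)))
      (List.ofFn fun i => Ideal.Quotient.mk
        ((q.comap (algebraMap A P)).map (algebraMap A (Localization.AtPrime q))) (y i))) :
    ∃ g : P, g ∉ q ∧ ∃ a : Fin r → P, (∀ i, a i ∈ I) ∧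
      IsWeaklyRegular (Localization.Away g) ((List.ofFn a).map (algebraMap P (Localization.Away g))) ∧
      I.map (algebraMap P (Localization.Away g)) = Ideal.ofList ((List.ofFn a).map (algebraMap P (Localization.Away g))) := by
  classical
  let S := Localization.AtPrime q
  let p := q.comap (algebraMap A P)
  let pS := p.map (algebraMap A S)
  choose a u haI hu hau using fun i => exists_mem_mul q (hyJ.le (Ideal.subset_span ⟨i, rfl⟩) : y i ∈ I.map (algebraMap P S))
  have hreg1 : IsWeaklyRegular (S ⧸ pS) ((List.ofFn a).map (algebraMap P (S ⧸ pS))) := by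
    have h := unit_seq_regular _ (fun i => Ideal.Quotient.mk pS (u i)) (fun i => (hu i).map _) hyreg
    simp only [S, pS, p, ← map_mul, ← hau] at h ⊢
    rw [List.map_ofFn]
    exact h
  rw [isWeaklyRegular_map_algebraMap_iff] at hreg1
  let pP := p.map (algebraMap A P)
  have hsub : (pP • ⊤ : Submodule P S) = pS.restrictScalars P := by
    rw [Ideal.smul_top_eq_map, Ideal.map_map, ← IsScalarTower.algebraMap_eq]
  have hreg2 : IsWeaklyRegular (S ⧸ (pP • ⊤ : Submodule P S)) (List.ofFn a) :=
    (((Submodule.quotEquivOfEq _ _ hsub).trans (Submodule.Quotient.restrictScalarsEquiv P pS)).isWeaklyRegular_congr _).2 hreg1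
  have : Module.Flat A S := by
    have : Module.Flat P S := IsLocalization.flat S q.primeCompl
    exact Module.Flat.trans A P S
  obtain ⟨g, hg, hs⟩ := FlatSlice.exists_sliced (R := A) q (List.ofFn a) hreg2
  have hle : I.map (algebraMap P S) ≤ (Ideal.span (Set.range a)).map (algebraMap P S) := by
    conv_lhs => rw [← hyJ]
    refine Ideal.span_le.2 ?_
    rintro _ ⟨i, rfl⟩
    refine (Ideal.mul_unit_mem_iff_mem _ (hu i)).1 ?_
    rw [← hau]
    exact Ideal.mem_map_of_mem _ (Ideal.subset_span ⟨i, rfl⟩)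
  obtain ⟨s, hs'⟩ := hI
  have : ∀ z ∈ s, ∃ t, t ∉ q ∧ t * z ∈ Ideal.span (Set.range a) := fun z hz => by
    obtain ⟨t, ht, htz⟩ := (IsLocalization.algebraMap_mem_map_algebraMap_iff q.primeCompl S _ z).1
      (hle (Ideal.mem_map_of_mem _ (hs'.le (Ideal.subset_span hz))))
    exact ⟨t, ht, htz⟩
  choose t ht htz using this
  let g' := ∏ z ∈ s.attach, t z.1 z.2
  have hg' : g' ∉ q := fun hmem => by
    obtain ⟨z, -, hz⟩ := (Ideal.IsPrime.prod_mem_iff).mp hmem
    exact ht z.1 z.2 hz
  let L := Localization.Away (g * g')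
  refine ⟨g * g', fun hmem => (hq.mem_or_mem hmem).elim hg hg', a, haI, ?_, ?_⟩
  · 
    have h1 : IsWeaklyRegular (Localization.Away g) ((List.ofFn a).map (algebraMap P (Localization.Away g))) :=
      (isWeaklyRegular_map_algebraMap_iff _ _ _).2 hs.isWeaklyRegular
    have hu : IsUnit (algebraMap P L g) :=
      isUnit_of_mul_isUnit_left (y := algebraMap P L g') (by rw [← map_mul]; exact IsLocalization.Away.algebraMap_isUnit (g * g'))
    let φ : Localization.Away g →+* L := IsLocalization.Away.lift g hu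
    let _ : Algebra (Localization.Away g) L := φ.toAlgebra
    have : IsScalarTower P (Localization.Away g) L := .of_algebraMap_eq fun z => (IsLocalization.Away.lift_eq g hu z).symm
    have : Module.Flat P L := IsLocalization.flat L (Submonoid.powers (g * g'))
    have : Module.Flat (Localization.Away g) L :=
      (Module.flat_iff_of_isLocalization (Localization.Away g) (Submonoid.powers g) L).2 inferInstance
    have h2 := h1.of_flat (S := L)
    rw [List.map_map] at h2
    rw [← RingHom.coe_comp, ← IsScalarTower.algebraMap_eq] at h2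
    exact h2
  · rw [← Ideal.map_ofList, ofList_ofFn]
    refine le_antisymm ?_ (Ideal.map_mono (Ideal.span_le.2 (Set.range_subset_iff.2 haI)))
    rw [← hs', Ideal.map_span, Ideal.span_le]
    rintro _ ⟨z, hz, rfl⟩
    have hu' : IsUnit (algebraMap P L (t z hz)) := by
      refine isUnit_of_dvd_unit (map_dvd _ ?_) (IsLocalization.Away.algebraMap_isUnit (g * g'))
      exact Dvd.dvd.mul_left (Finset.dvd_prod_of_mem (fun z : s => t z.1 z.2) (Finset.mem_attach s ⟨z, hz⟩)) g
    refine (Ideal.unit_mul_mem_iff_mem _ hu').1 ?_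
    rw [← map_mul]
    exact Ideal.mem_map_of_mem _ (htz z hz)

/-- A flat finitely presented quotient with flat conormal module has a Koszul-regular kernel. -/
theorem isKoszulRegularIdeal_of_conormalFlat (I : Ideal P) (hI : I.FG) [Module.Flat A (P ⧸ I)]
    (hflat : ConormalFlat I) : LCI.IsKoszulRegularIdeal I := by
  classical
  rintro ⟨q, hq⟩ hIq
  change I ≤ q at hIq
  let S := Localization.AtPrime q
  let p := q.comap (algebraMap A P)
  let pS := p.map (algebraMap A S)
  have hJm : I.map (algebraMap P S) ≤ maximalIdeal S := Ideal.map_le_iff_le_comap.mpr fun a ha => by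
    rw [Ideal.mem_comap, IsLocalization.AtPrime.to_map_mem_maximal_iff S q a]
    exact hIq ha
  have hJ : I.map (algebraMap P S) ≠ ⊤ := fun h => (maximalIdeal.isMaximal S).ne_top (top_le_iff.1 (h ▸ hJm))
  obtain ⟨r, x, hxI, hxJ, hind⟩ := exists_minimal_generators q hI hflat
  have := isRegularLocalRing_fibre A n q
  have hpm : pS ≤ maximalIdeal S := Ideal.map_le_iff_le_comap.2 fun a ha => by
    rw [Ideal.mem_comap, IsScalarTower.algebraMap_apply A P S, IsLocalization.AtPrime.to_map_mem_maximal_iff S q]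
    exact ha
  obtain ⟨y, hyJ, hyreg⟩ := exists_regular_generators pS _ hJ (hI.map _) hpm _ hxJ hind
    (inter_le_mul_localization q p)
  obtain ⟨g, hg, a, -, hreg, hspan⟩ := exists_koszulRegular_nhd I hI q y hyJ hyreg
  exact ⟨g, hg, _, KoszulExt.isKoszulRegularSeq_of_isWeaklyRegular hreg, hspan⟩

end Converse

end Groth.Agent.NLAmp
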