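import Groth.Agent.NLAmp.Compare
import Groth.Agent.NLAmp.Regular

/-!
# Tor amplitude of the naive cotangent complex and local complete intersections
-/

set_option autoImplicit false

universe u

namespace Groth.Agent.NLAmp

attribute [local instance] HasDerivedCategory.standard

variable (A B : Type u) [CommRing A] [CommRing B] [Algebra A B]

/-- Generators indexed by a small type for a presentation. -/
noncomputable def gens {n : ℕ} (f : MvPolynomial (Fin n) A →ₐ[A] B) (hf : Function.Surjective f) :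
    Algebra.Generators A B (ULift.{u} (Fin n)) :=
  Algebra.Generators.ofSurjective (fun i => f (MvPolynomial.X i.down)) (by
    have h : f = (MvPolynomial.aeval fun i : ULift.{u} (Fin n) => f (MvPolynomial.X i.down)).comp
        (MvPolynomial.rename ULift.up) := by ext; simp
    intro b
    obtain ⟨a, rfl⟩ := hf b
    exact ⟨MvPolynomial.rename ULift.up a, (DFunLike.congr_fun h a).symm⟩)

theorem exists_iso_NL {n : ℕ} (f : MvPolynomial (Fin n) A →ₐ[A] B) (hf : Function.Surjective f) :
    ∃ E : Algebra.Extension.{u} A B, Module.Finite B E.CotangentSpace ∧ Module.Free B E.CotangentSpace ∧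
      (ConormalFlat (RingHom.ker f.toRingHom) ↔ Module.Flat B E.Cotangent) ∧
      (HasLocalBases (RingHom.ker f.toRingHom) → Module.Finite B E.Cotangent ∧ Module.Projective B E.Cotangent) ∧
      Nonempty (DRing.toD (extCx E) ≅ LCI.NL A B) := by
  let G := gens A B f hf
  let alg : Algebra (MvPolynomial (Fin n) A) B := f.toRingHom.toAlgebra
  have : IsScalarTower A (MvPolynomial (Fin n) A) B := .of_algebraMap_eq fun a => (f.commutes a).symm
  let σ : B → MvPolynomial (Fin n) A := fun b => (hf b).choose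
  let E : Algebra.Extension.{u} A B := { Ring := MvPolynomial (Fin n) A, σ := σ, algebraMap_σ := fun b => (hf b).choose_spec }
  let e : MvPolynomial (Fin n) A ≃ₐ[A] MvPolynomial (ULift.{u} (Fin n)) A := MvPolynomial.renameEquiv A Equiv.ulift.symm
  have hG : ∀ x, algebraMap G.toExtension.Ring B (e x) = f x := by
    intro x
    have h : (MvPolynomial.aeval G.val).comp e.toAlgHom = f := by
      ext i; simp [G, gens, e]
    exact DFunLike.congr_fun h x
  let h₁ : E.Hom G.toExtension :=
    { toRingHom := e.toRingEquiv.toRingHom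
      toRingHom_algebraMap := fun a => e.commutes a
      algebraMap_toRingHom := fun x => hG x }
  let h₂ : G.toExtension.Hom E :=
    { toRingHom := e.symm.toRingEquiv.toRingHom
      toRingHom_algebraMap := fun a => e.symm.commutes a
      algebraMap_toRingHom := fun x => by
        obtain ⟨x, rfl⟩ := e.surjective x
        show f (e.symm (e x)) = _
        rw [e.symm_apply_apply]
        exact (hG x).symm }
  obtain ⟨a, ha⟩ := quasiIso_map h₁ h₂
  obtain ⟨i⟩ := nonempty_iso_NL G
  have hb : Module.Basis (Fin n) B E.CotangentSpace :=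
    (KaehlerDifferential.mvPolynomialBasis A (Fin n)).baseChange (R := MvPolynomial (Fin n) A) B
  refine ⟨E, Module.Finite.of_basis hb, Module.Free.of_basis hb, ⟨fun h => flat_cotangent E h, fun _ => conormalFlat_of_flat E⟩,
    fun h => projective_cotangent E h, ⟨?_ ≪≫ i⟩⟩
  exact @CategoryTheory.asIso _ _ _ _ (DerivedCategory.Q.map a) ((DerivedCategory.isIso_Q_map_iff_quasiIso _ a).2 ha)

open CategoryTheory in
theorem isPerfect_and_torAmp (h : LCI.IsLCI A B) :
    DRing.IsPerfect B (LCI.NL A B) ∧ DRing.HasTorAmplitudeIn B (-1) 0 (LCI.NL A B) := by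
  obtain ⟨-, n, f, hf, hI⟩ := h
  obtain ⟨E, _, _, -, hproj, ⟨i⟩⟩ := exists_iso_NL A B f hf
  obtain ⟨_, _⟩ := hproj (hasLocalBases_of_isKoszulRegularIdeal hI)
  constructor
  · obtain ⟨C, a, b, h1, h2, ⟨e⟩⟩ := isPerfect_of_projective (ModuleCat.ofHom E.cotangentComplex)
    exact ⟨C, a, b, h1, h2, ⟨e ≪≫ i⟩⟩
  · obtain ⟨C, h1, h2, ⟨e⟩⟩ := torAmp_of_flat (ModuleCat.ofHom E.cotangentComplex)
    exact ⟨C, h1, h2, ⟨e ≪≫ i⟩⟩

open CategoryTheory in
theorem conormalFlat_of_torAmp {n : ℕ} (f : MvPolynomial (Fin n) A →ₐ[A] B) (hf : Function.Surjective f)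
    (h : DRing.HasTorAmplitudeIn B (-1) 0 (LCI.NL A B)) : ConormalFlat (RingHom.ker f.toRingHom) := by
  obtain ⟨E, _, _, hiff, -, ⟨i⟩⟩ := exists_iso_NL A B f hf
  obtain ⟨C, h1, h2, ⟨e⟩⟩ := h
  exact hiff.2 (flat_of_torAmp (ModuleCat.ofHom E.cotangentComplex) ⟨C, h1, h2, ⟨e ≪≫ i.symm⟩⟩)

theorem torAmp_iff_isLCI_of_flat [Module.Flat A B] [Algebra.FinitePresentation A B] :
    DRing.HasTorAmplitudeIn B (-1) 0 (LCI.NL A B) ↔ LCI.IsLCI A B := by
  refine ⟨fun h => ?_, fun h => (isPerfect_and_torAmp A B h).2⟩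
  obtain ⟨n, f, hf, hfg⟩ := Algebra.FinitePresentation.out (R := A) (A := B)
  refine ⟨inferInstance, n, f, hf, ?_⟩
  have : Module.Flat A (MvPolynomial (Fin n) A ⧸ RingHom.ker f.toRingHom) :=
    Module.Flat.of_linearEquiv (Ideal.quotientKerAlgEquivOfSurjective hf).toLinearEquiv
  exact isKoszulRegularIdeal_of_conormalFlat _ hfg (conormalFlat_of_torAmp A B f hf h)

end Groth.Agent.NLAmp
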