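import Groth.Prelude.Def_LCI2
import Groth.Agent.DRingTwoTerm.Basic
import Groth.Agent.DRingTorAmp.Triangle
import Groth.Agent.DRingTorAmp.Amplitude

/-!
# The naive cotangent complex from any presentation, and its tor amplitude
-/

set_option autoImplicit false

universe u

open CategoryTheory CategoryTheory.Limits

namespace Groth.Agent.NLAmp

open Groth.Agent.DRingTwoTerm

attribute [local instance] HasDerivedCategory.standard

variable {A B : Type u} [CommRing A] [CommRing B] [Algebra A B]

/-- The two-term complex of an extension. -/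
noncomputable abbrev extCx (P : Algebra.Extension.{u} A B) : DRing.Cx B :=
  tt (ModuleCat.ofHom P.cotangentComplex)

theorem quasiIso_map {P P' : Algebra.Extension.{u} A B} (f : P.Hom P') (f' : P'.Hom P) :
    ∃ a : extCx P ⟶ extCx P', QuasiIso a := by
  let α : P.Cotangent →ₗ[B] P'.Cotangent := Algebra.Extension.Cotangent.map f
  let β : P.CotangentSpace →ₗ[B] P'.CotangentSpace := Algebra.Extension.CotangentSpace.map f
  let ι₀ := ttIso₀ (ModuleCat.ofHom P.cotangentComplex)
  let ι₁ := ttIso₁ (ModuleCat.ofHom P.cotangentComplex)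
  let κ₀ := ttIso₀ (ModuleCat.ofHom P'.cotangentComplex)
  let κ₁ := ttIso₁ (ModuleCat.ofHom P'.cotangentComplex)
  let a : extCx P ⟶ extCx P' := ttHom (ModuleCat.ofHom P.cotangentComplex) (above_of_outside (tt_outside _))
    (ModuleCat.ofHom α ≫ κ₀.inv) (ModuleCat.ofHom β ≫ κ₁.inv) (by
      ext x
      apply κ₁.toLinearEquiv.injective
      show κ₁.hom ((extCx P').d (-1) 0 (κ₀.inv (α x))) = κ₁.hom (κ₁.inv (β (P.cotangentComplex x)))
      rw [tt_d, Iso.inv_hom_id_apply, Iso.inv_hom_id_apply]
      exact (Algebra.Extension.CotangentSpace.map_cotangentComplex f x).symm)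
  have ha₀ : ∀ x, κ₀.hom (a.f (-1) x) = α (ι₀.hom x) := fun x => by
    simp [a, ttHom, ι₀, κ₀]
  have ha₁ : ∀ x, κ₁.hom (a.f 0 x) = β (ι₁.hom x) := fun x => by
    simp [a, ttHom, ι₁, κ₁]
  have hd : ∀ x, ι₁.hom ((extCx P).d (-1) 0 x) = P.cotangentComplex (ι₀.hom x) := fun x => tt_d _ x
  have hd' : ∀ x, κ₁.hom ((extCx P').d (-1) 0 x) = P'.cotangentComplex (κ₀.hom x) := fun x => tt_d _ x
  have hH : Function.Bijective (Algebra.Extension.H1Cotangent.map f) :=
    (Algebra.Extension.H1Cotangent.equiv f f').bijective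
  have hk : ∀ z, P'.toKaehler (β z) = P.toKaehler z := by
    intro z
    induction z using TensorProduct.induction_on with
    | zero => simp
    | add x y hx hy => simp [hx, hy]
    | tmul s y =>
      obtain ⟨y, rfl⟩ := KaehlerDifferential.tensorProductTo_surjective _ _ y
      induction y with
      | zero => simp
      | add x y hx hy => simp [TensorProduct.tmul_add, hx, hy]
      | tmul r y =>
        simp only [Derivation.tensorProductTo_tmul, TensorProduct.tmul_smul, TensorProduct.smul_tmul', β,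
          Algebra.Extension.CotangentSpace.map_tmul, Algebra.Extension.toKaehler,
          KaehlerDifferential.mapBaseChange_tmul, KaehlerDifferential.map_D]
        simp [f.algebraMap_toRingHom]
  refine ⟨a, quasiIso_of_elementwise (tt_outside _) (tt_outside _) a (fun x hx hax => ?_) (fun z hz => ?_)
    (fun x v hxv => ?_) (fun z => ?_)⟩
  · have h1 : ι₀.hom x ∈ LinearMap.ker P.cotangentComplex := by
      rw [LinearMap.mem_ker, ← hd, hx, map_zero]
    have h2 : Algebra.Extension.H1Cotangent.map f ⟨ι₀.hom x, h1⟩ = 0 := Subtype.ext (by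
      show α (ι₀.hom x) = 0
      rw [← ha₀, hax, map_zero])
    refine ι₀.toLinearEquiv.injective ?_
    show ι₀.hom x = ι₀.hom 0
    rw [map_zero]
    exact congrArg Subtype.val (hH.1 (h2.trans (map_zero _).symm))
  · obtain ⟨⟨y, hy⟩, hyz⟩ := hH.2 ⟨κ₀.hom z, by
      show κ₀.hom z ∈ LinearMap.ker P'.cotangentComplex
      rw [LinearMap.mem_ker, ← hd', hz, map_zero]⟩
    refine ⟨ι₀.inv y, ι₁.toLinearEquiv.injective ?_, κ₀.toLinearEquiv.injective ?_⟩
    · show ι₁.hom _ = ι₁.hom 0
      rw [hd, Iso.inv_hom_id_apply, map_zero]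
      exact hy
    · show κ₀.hom _ = κ₀.hom z
      rw [ha₀, Iso.inv_hom_id_apply]
      exact congrArg Subtype.val hyz
  · have h0 : P.toKaehler (ι₁.hom x) = 0 := by
      rw [← hk, ← ha₁, hxv, hd']
      exact Function.Exact.apply_apply_eq_zero P'.exact_cotangentComplex_toKaehler _
    obtain ⟨w, hw⟩ := (P.exact_cotangentComplex_toKaehler _).1 h0
    refine ⟨ι₀.inv w, ι₁.toLinearEquiv.injective ?_⟩
    show ι₁.hom x = ι₁.hom _
    rw [hd, Iso.inv_hom_id_apply, hw]
  · obtain ⟨x, hx⟩ := P.toKaehler_surjective (P'.toKaehler (κ₁.hom z))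
    obtain ⟨w, hw⟩ := (P'.exact_cotangentComplex_toKaehler _).1
      (show P'.toKaehler (κ₁.hom z - β x) = 0 by rw [map_sub, hk, hx, sub_self])
    refine ⟨ι₁.inv x, κ₀.inv w, κ₁.toLinearEquiv.injective ?_⟩
    show κ₁.hom _ = κ₁.hom z
    rw [map_add, ha₁, hd', Iso.inv_hom_id_apply, Iso.inv_hom_id_apply, hw, add_sub_cancel]

/-- The naive cotangent complex may be computed from any presentation. -/
theorem nonempty_iso_NL {ι : Type u} (G : Algebra.Generators A B ι) :
    Nonempty (DRing.toD (extCx G.toExtension) ≅ LCI.NL A B) := by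
  obtain ⟨a, ha⟩ := quasiIso_map (Algebra.Generators.defaultHom G (Algebra.Generators.self A B)).toExtensionHom
    (Algebra.Generators.defaultHom (Algebra.Generators.self A B) G).toExtensionHom
  exact ⟨@asIso _ _ _ _ (DerivedCategory.Q.map a) ((DerivedCategory.isIso_Q_map_iff_quasiIso _ a).2 ha)⟩

section Amplitude

variable {M N : ModuleCat.{u} B} (f : M ⟶ N)

theorem torAmp_of_flat [Module.Flat B M] [Module.Flat B N] :
    DRing.HasTorAmplitudeIn B (-1) 0 (DRing.toD (tt f)) := by
  refine ⟨tt f, tt_outside f, fun i => ?_, ⟨Iso.refl _⟩⟩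
  by_cases h : i = -1
  · subst h; exact Module.Flat.of_linearEquiv (ttIso₀ f).toLinearEquiv
  by_cases h' : i = 0
  · subst h'; exact Module.Flat.of_linearEquiv (ttIso₁ f).toLinearEquiv
  · have := ModuleCat.subsingleton_of_isZero (HomologicalComplex.isZero_double_X f
      (show (ComplexShape.up ℤ).Rel (-1) 0 by simp) i h h')
    infer_instance

theorem isPerfect_of_projective [Module.Finite B M] [Module.Projective B M] [Module.Finite B N] [Module.Projective B N] :
    DRing.IsPerfect B (DRing.toD (tt f)) := by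
  refine ⟨tt f, -1, 0, tt_outside f, fun i => ?_, ⟨Iso.refl _⟩⟩
  by_cases h : i = -1
  · subst h
    exact ⟨Module.Finite.equiv (ttIso₀ f).toLinearEquiv.symm, Module.Projective.of_equiv (ttIso₀ f).toLinearEquiv.symm⟩
  by_cases h' : i = 0
  · subst h'
    exact ⟨Module.Finite.equiv (ttIso₁ f).toLinearEquiv.symm, Module.Projective.of_equiv (ttIso₁ f).toLinearEquiv.symm⟩
  · have := ModuleCat.subsingleton_of_isZero (HomologicalComplex.isZero_double_X f
      (show (ComplexShape.up ℤ).Rel (-1) 0 by simp) i h h')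
    exact ⟨inferInstance, inferInstance⟩

theorem flat_of_torAmp [Module.Flat B N] (h : DRing.HasTorAmplitudeIn B (-1) 0 (DRing.toD (tt f))) :
    Module.Flat B M := by
  obtain ⟨T, hT, ⟨e₁⟩, ⟨e₂⟩, ⟨e₃⟩⟩ := DRingTorAmp.exists_lowest_triangle (tt f) (-1)
    (fun i hi => tt_outside f i (Or.inl hi))
  have h₁ : DRing.HasTorAmplitudeIn B 0 1 T.obj₁ := by
    refine ⟨DRingKProj.trunc (tt f) (-1 + 1), fun i hi => ?_, fun i => ?_, ⟨e₁.symm⟩⟩
    · rcases hi with hi | hi
      · exact DRingKProj.isZero_trunc_X (tt f) _ (by omega)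
      · have := ModuleCat.subsingleton_of_isZero (tt_outside f i (Or.inr (by omega)))
        have : Subsingleton (DRingKProj.truncSub (tt f) (-1 + 1) i) := inferInstance
        exact ModuleCat.isZero_of_subsingleton (ModuleCat.of B (DRingKProj.truncSub (tt f) (-1 + 1) i))
    · show Module.Flat B (DRingKProj.truncSub (tt f) (-1 + 1) i)
      by_cases h0 : i = 0
      · subst h0
        rw [DRingKProj.truncSub_of_le (tt f) _ (by omega)]
        exact Module.Flat.of_linearEquiv (Submodule.topEquiv.trans (ttIso₁ f).toLinearEquiv)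
      · have hz : Subsingleton (DRingKProj.truncSub (tt f) (-1 + 1) i) := by
          by_cases hi : i < 0
          · rw [DRingKProj.truncSub_of_lt (tt f) _ (by omega)]; infer_instance
          · have := ModuleCat.subsingleton_of_isZero (tt_outside f i (Or.inr (by omega)))
            infer_instance
        infer_instance
  have h₂ : DRing.HasTorAmplitudeIn B (-1) 0 T.obj₂ := by
    obtain ⟨E, hE, hF, ⟨e⟩⟩ := h
    exact ⟨E, hE, hF, ⟨e ≪≫ e₂.symm⟩⟩
  have h₃ := DRingTorAmp.torAmp_obj₃ T hT (a := -1) (b := 0) (by simpa using h₁) h₂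
  obtain ⟨E, hE, hF, ⟨e⟩⟩ := h₃
  have := DRingTorAmp.flat_of_single (C := (tt f).X (-1)) (m := -1) (N := 0) ⟨E, hE, hF, ⟨e ≪≫ e₃⟩⟩
  exact Module.Flat.of_linearEquiv (ttIso₀ f).toLinearEquiv.symm

end Amplitude

end Groth.Agent.NLAmp
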