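import Mathlib.RingTheory.Extension.Cotangent.Basic
import Mathlib.RingTheory.Flat.EquationalCriterion
import Mathlib.RingTheory.Ideal.Maximal
import Mathlib.Algebra.Module.FinitePresentation
import Mathlib.RingTheory.Finiteness.Ideal

/-!
# Flatness and projectivity of conormal modules through relations
-/

set_option autoImplicit false

noncomputable section

universe u

namespace Groth.Agent.NLAmp

variable {P : Type u} [CommRing P] (I : Ideal P)

/-- Equational flatness of `I/I²` over `P/I`. -/
def ConormalFlat : Prop :=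
  ∀ (l : ℕ) (b z : Fin l → P), (∀ i, z i ∈ I) → ∑ i, b i * z i ∈ I ^ 2 →
    ∃ (k : ℕ) (c : Fin l → Fin k → P) (y : Fin k → P), (∀ j, y j ∈ I) ∧
      (∀ i, z i - ∑ j, c i j * y j ∈ I ^ 2) ∧ ∀ j, ∑ i, b i * c i j ∈ I

/-- On `D(g)` the ideal has generators which are independent modulo its square. -/
def IsLocalBasis (g : P) : Prop :=
  ∃ (r : ℕ) (a : Fin r → P), (∀ j, a j ∈ I) ∧ (∀ z ∈ I, ∃ (N : ℕ) (c : Fin r → P), g ^ N * z = ∑ j, c j * a j) ∧
    ∀ c : Fin r → P, ∑ j, c j * a j ∈ I ^ 2 → ∃ N : ℕ, ∀ j, g ^ N * c j ∈ I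

/-- The ideal has local bases everywhere on its zero locus. -/
def HasLocalBases : Prop :=
  ∀ q : Ideal P, q.IsPrime → I ≤ q → ∃ g, g ∉ q ∧ IsLocalBasis I g

variable {I}

theorem eq_top_of_pow {J K : Ideal P} (s : Set P) (hK : K ≤ J) (hs : ∀ g ∈ s, ∃ N : ℕ, g ^ N ∈ J)
    (hspan : Ideal.span s ⊔ K = ⊤) : J = ⊤ := by
  by_contra hJ
  obtain ⟨m, hm, hJm⟩ := Ideal.exists_le_maximal J hJ
  refine hm.ne_top (top_le_iff.1 (hspan ▸ sup_le (Ideal.span_le.2 fun g hg => ?_) (hK.trans hJm)))
  obtain ⟨N, hN⟩ := hs g hg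
  exact hm.isPrime.mem_of_pow_mem N (hJm hN)

theorem exists_cover (h : HasLocalBases I) :
    ∃ (s : Finset P) (e : P), (∀ g ∈ s, IsLocalBasis I g) ∧ e ∈ I ∧ Ideal.span (s : Set P) ⊔ Ideal.span {e} = ⊤ := by
  classical
  have htop : Ideal.span {g | IsLocalBasis I g} ⊔ I = ⊤ := by
    by_contra hne
    obtain ⟨m, hm, hle⟩ := Ideal.exists_le_maximal _ hne
    obtain ⟨g, hg, hgB⟩ := h m hm.isPrime (le_trans le_sup_right hle)
    exact hg (le_trans le_sup_left hle (Ideal.subset_span hgB))
  obtain ⟨y, hy, e, he, hye⟩ := Submodule.mem_sup.1 (htop.ge (Submodule.mem_top : (1 : P) ∈ ⊤))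
  obtain ⟨s, hs, hys⟩ := Submodule.mem_span_finite_of_mem_span hy
  refine ⟨s, e, fun g hg => hs hg, he, (Ideal.eq_top_iff_one _).2 ?_⟩
  rw [← hye]
  exact add_mem (Submodule.mem_sup_left hys) (Submodule.mem_sup_right (Ideal.mem_span_singleton_self e))

/-- The ideal is finitely generated. -/
theorem HasLocalBases.fg (h : HasLocalBases I) : I.FG := by
  classical
  obtain ⟨s, e, hs, he, hspan⟩ := exists_cover h
  choose r a haI hgen hindep using fun g : s => hs g g.2
  let T : Finset P := insert e (Finset.univ.biUnion fun g : s => Finset.univ.image (a g))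
  refine ⟨T, le_antisymm (Submodule.span_le.2 fun x hx => ?_) fun x hx => ?_⟩
  · simp only [T, Finset.coe_insert, Set.mem_insert_iff, Finset.mem_coe, Finset.mem_biUnion, Finset.mem_image] at hx
    rcases hx with rfl | ⟨g, -, j, -, rfl⟩
    exacts [he, haI g j]
  · let J : Ideal P := (Ideal.span (T : Set P)).colon {x}
    have hJ : J = ⊤ := eq_top_of_pow (s : Set P) (Ideal.span_le.2 (by
        rintro _ rfl
        rw [SetLike.mem_coe, Submodule.mem_colon_singleton, smul_eq_mul]
        exact Ideal.mul_mem_right _ _ (Ideal.subset_span (Finset.mem_insert_self _ _)))) (fun g hg => by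
      obtain ⟨N, c, hc⟩ := hgen ⟨g, hg⟩ x hx
      refine ⟨N, Submodule.mem_colon_singleton.2 ?_⟩
      rw [smul_eq_mul, hc]
      refine Ideal.sum_mem _ fun j _ => Ideal.mul_mem_left _ _ (Ideal.subset_span ?_)
      exact Finset.mem_insert_of_mem (Finset.mem_biUnion.2 ⟨⟨g, hg⟩, Finset.mem_univ _,
        Finset.mem_image.2 ⟨j, Finset.mem_univ _, rfl⟩⟩)) hspan
    simpa [J] using Submodule.mem_colon_singleton.1 (hJ.ge (Submodule.mem_top : (1 : P) ∈ ⊤))

theorem exists_uniform {g : P} {r l : ℕ} (a : Fin r → P)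
    (hgen : ∀ z ∈ I, ∃ (N : ℕ) (c : Fin r → P), g ^ N * z = ∑ j, c j * a j) (z : Fin l → P) (hz : ∀ i, z i ∈ I) :
    ∃ (N : ℕ) (c : Fin l → Fin r → P), ∀ i, g ^ N * z i = ∑ j, c i j * a j := by
  choose N c hc using fun i => hgen (z i) (hz i)
  refine ⟨∑ i, N i, fun i j => g ^ (∑ i, N i - N i) * c i j, fun i => ?_⟩
  have hle : N i ≤ ∑ i, N i := Finset.single_le_sum (fun _ _ => Nat.zero_le _) (Finset.mem_univ i)
  simp only [mul_assoc, ← Finset.mul_sum, ← hc]
  rw [← mul_assoc, ← pow_add, Nat.sub_add_cancel hle]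

theorem HasLocalBases.conormalFlat (h : HasLocalBases I) : ConormalFlat I := by
  intro l b z hz hrel
  let T : Ideal P :=
    { carrier := {t | ∃ (k : ℕ) (c : Fin l → Fin k → P) (y : Fin k → P), (∀ j, y j ∈ I) ∧
        (∀ i, t * z i - ∑ j, c i j * y j ∈ I ^ 2) ∧ ∀ j, ∑ i, b i * c i j ∈ I}
      zero_mem' := ⟨0, fun _ => Fin.elim0, Fin.elim0, fun j => j.elim0, fun i => by simp, fun j => j.elim0⟩
      add_mem' := by
        rintro t t' ⟨k, c, y, hy, hc, hb⟩ ⟨k', c', y', hy', hc', hb'⟩
        refine ⟨k + k', fun i => Fin.append (c i) (c' i), Fin.append y y', fun j => ?_, fun i => ?_, fun j => ?_⟩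
        · refine Fin.addCases (fun j => ?_) (fun j => ?_) j <;> simp [hy, hy']
        · rw [Fin.sum_univ_add]
          simp only [Fin.append_left, Fin.append_right]
          have := add_mem (hc i) (hc' i)
          convert this using 1
          ring
        · refine Fin.addCases (fun j => ?_) (fun j => ?_) j <;> simp [hb, hb']
      smul_mem' := by
        rintro w t ⟨k, c, y, hy, hc, hb⟩
        refine ⟨k, fun i j => w * c i j, y, hy, fun i => ?_, fun j => ?_⟩
        · have := Ideal.mul_mem_left _ w (hc i)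
          simpa [mul_sub, Finset.mul_sum, mul_assoc, smul_eq_mul] using this
        · have := Ideal.mul_mem_left _ w (hb j)
          simpa [Finset.mul_sum, mul_left_comm] using this }
  have hT : T = ⊤ := by
    by_contra hne
    obtain ⟨m, hm, hle⟩ := Ideal.exists_le_maximal T hne
    have hIT : I ≤ T := fun t ht => ⟨0, fun _ => Fin.elim0, Fin.elim0, fun j => j.elim0,
      fun i => by simpa [pow_two] using Ideal.mul_mem_mul ht (hz i), fun j => j.elim0⟩
    obtain ⟨g, hg, r, a, ha, hgen, hindep⟩ := h m hm.isPrime (hIT.trans hle)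
    obtain ⟨N, c, hc⟩ := exists_uniform a hgen z hz
    obtain ⟨M, hM⟩ := hindep (fun j => ∑ i, b i * c i j) (by
      simp only [Finset.sum_mul, mul_assoc]
      rw [Finset.sum_comm]
      simp only [← Finset.mul_sum, ← hc, mul_left_comm _ (g ^ N)]
      exact Ideal.mul_mem_left _ _ hrel)
    refine hg (hm.isPrime.mem_of_pow_mem (M + N) (hle ⟨r, fun i j => g ^ M * c i j, a, ha, fun i => ?_, fun j => ?_⟩))
    · simp only [mul_assoc, ← Finset.mul_sum, ← hc]
      rw [← mul_assoc (g ^ M), ← pow_add, sub_self]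
      exact zero_mem _
    · simpa [Finset.mul_sum, mul_left_comm] using hM j
  obtain ⟨k, c, y, hy, hc, hb⟩ := hT.ge (Submodule.mem_top : (1 : P) ∈ ⊤)
  exact ⟨k, c, y, hy, fun i => by simpa using hc i, hb⟩

/-- Relations modulo the square are finitely generated. -/
theorem HasLocalBases.fg_relations (h : HasLocalBases I) {m : ℕ} (z : Fin m → P) (hz : Ideal.span (Set.range z) = I)
    (K : Submodule P (Fin m → P)) (hK : ∀ b, b ∈ K ↔ ∑ i, b i * z i ∈ I ^ 2) : K.FG := by
  classical
  have hzI : ∀ i, z i ∈ I := fun i => hz.le (Ideal.subset_span ⟨i, rfl⟩)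
  obtain ⟨s, e, hs, he, hspan⟩ := exists_cover h
  choose r a haI hgen hindep using fun g : s => hs g g.2
  choose N c hc using fun g : s => exists_uniform (a g) (hgen g) z hzI
  choose d hd using fun (g : s) j => Ideal.mem_span_range_iff_exists_fun.1 (hz.ge (haI g j))
  let v : s → Fin m → (Fin m → P) := fun g i => (g.1 ^ N g) • Pi.single i (1 : P) - ∑ j, c g i j • d g j
  let T : Submodule P (Fin m → P) := I • ⊤ ⊔ Submodule.span P (Set.range fun p : s × Fin m => v p.1 p.2)
  have hTfg : T.FG := (Submodule.FG.smul h.fg Module.Finite.fg_top).sup (Submodule.fg_span (Set.finite_range _))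
  suffices K = T by rw [this]; exact hTfg
  refine le_antisymm (fun b hb => ?_) (sup_le ?_ (Submodule.span_le.2 ?_))
  · let J : Ideal P := T.colon {b}
    have hJ : J = ⊤ := eq_top_of_pow (s : Set P) (Ideal.span_le.2 (by
        rintro _ rfl
        exact Submodule.mem_colon_singleton.2 (Submodule.mem_sup_left (Submodule.smul_mem_smul he trivial))))
        (fun g hg => by
      let g' : s := ⟨g, hg⟩
      obtain ⟨M, hM⟩ := hindep g' (fun j => ∑ i, b i * c g' i j) (by
        simp only [Finset.sum_mul, mul_assoc]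
        rw [Finset.sum_comm]
        have : ∑ x, b x * (g ^ N g' * z x) = g ^ N g' * ∑ x, b x * z x := by
          rw [Finset.mul_sum]; exact Finset.sum_congr rfl fun x _ => by ring
        simp only [← Finset.mul_sum, ← hc g']
        rw [this]
        exact Ideal.mul_mem_left _ _ ((hK b).1 hb))
      refine ⟨M + N g', Submodule.mem_colon_singleton.2 ?_⟩
      have hb' : g ^ N g' • b = (∑ i, b i • v g' i) + ∑ j, (∑ i, b i * c g' i j) • d g' j := by
        simp only [v, smul_sub, Finset.sum_sub_distrib, Finset.smul_sum, Finset.sum_smul, smul_smul]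
        rw [Finset.sum_comm (f := fun i j => (b i * c g' i j) • d g' j), sub_add_cancel]
        funext k
        simp [Finset.sum_apply, Pi.single_apply, mul_comm, g']
      rw [pow_add, mul_smul, hb', smul_add, Finset.smul_sum, Finset.smul_sum]
      refine add_mem (Submodule.sum_mem _ fun i _ => ?_) (Submodule.sum_mem _ fun j _ => ?_)
      · exact Submodule.smul_mem _ _ (Submodule.smul_mem _ _ (Submodule.mem_sup_right (Submodule.subset_span ⟨(g', i), rfl⟩)))
      · rw [smul_smul]
        exact Submodule.mem_sup_left (Submodule.smul_mem_smul (hM j) trivial)) hspan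
    simpa [J] using Submodule.mem_colon_singleton.1 (hJ.ge (Submodule.mem_top : (1 : P) ∈ ⊤))
  · refine Submodule.smul_le.2 fun t ht b _ => (hK _).2 ?_
    refine Ideal.sum_mem _ fun i _ => ?_
    rw [pow_two, Pi.smul_apply, smul_eq_mul, mul_assoc]
    exact Ideal.mul_mem_mul ht (Ideal.mul_mem_left _ _ (hzI i))
  · rintro _ ⟨⟨g, i⟩, rfl⟩
    refine (hK _).2 ?_
    have : ∑ k, v g i k * z k = 0 := by
      simp only [v, Pi.sub_apply, Pi.smul_apply, Finset.sum_apply, smul_eq_mul, sub_mul, Finset.sum_sub_distrib,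
        Finset.sum_mul, Pi.single_apply, mul_ite, mul_one, mul_zero, ite_mul, zero_mul, Finset.sum_ite_eq',
        Finset.mem_univ, if_true, mul_assoc]
      rw [Finset.sum_comm]
      simp only [← Finset.mul_sum, hd, ← hc, sub_self]
    rw [this]
    exact zero_mem _

section Extension

variable {A B : Type u} [CommRing A] [CommRing B] [Algebra A B] (E : Algebra.Extension.{u} A B)

open Algebra.Extension

theorem sum_smul_mk {l : ℕ} (b : Fin l → E.Ring) (z : Fin l → E.ker) :
    ∑ i, algebraMap E.Ring B (b i) • Cotangent.mk (z i) = Cotangent.mk (∑ i, b i • z i) := by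
  rw [map_sum]
  exact Finset.sum_congr rfl fun i _ => by rw [map_smul, algebraMap_smul]

theorem flat_cotangent (h : ConormalFlat E.ker) : Module.Flat B E.Cotangent := by
  refine Module.Flat.iff_forall_isTrivialRelation.2 fun {l f x} hfx => ?_
  choose z hz using fun i => Cotangent.mk_surjective (x i)
  choose b hb using fun i => E.algebraMap_surjective (f i)
  simp only [← hz, ← hb, sum_smul_mk, Cotangent.mk_eq_zero_iff, AddSubmonoidClass.coe_finsetSum,
    SetLike.val_smul, smul_eq_mul] at hfx
  obtain ⟨k, c, y, hy, hc, hbc⟩ := h l b (fun i => z i) (fun i => (z i).2) hfx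
  refine ⟨k, fun i j => algebraMap E.Ring B (c i j), fun j => Cotangent.mk ⟨y j, hy j⟩, fun i => ?_, fun j => ?_⟩
  · rw [sum_smul_mk E (c i) fun j => ⟨y j, hy j⟩, ← hz, Cotangent.mk_eq_mk_iff_sub_mem]
    simpa using hc i
  · simp only [← hb, ← map_mul, ← map_sum]
    exact hbc j

theorem conormalFlat_of_flat [Module.Flat B E.Cotangent] : ConormalFlat E.ker := by
  intro l b z hz hrel
  have h0 : ∑ i, algebraMap E.Ring B (b i) • Cotangent.mk (⟨z i, hz i⟩ : E.ker) = 0 := by
    rw [sum_smul_mk E b fun i => ⟨z i, hz i⟩, Cotangent.mk_eq_zero_iff]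
    simpa using hrel
  obtain ⟨k, a, y, hy, ha⟩ := Module.Flat.isTrivialRelation_of_sum_smul_eq_zero h0
  choose Y hY using fun j => Cotangent.mk_surjective (y j)
  choose c hc using fun i j => E.algebraMap_surjective (a i j)
  refine ⟨k, c, fun j => Y j, fun j => (Y j).2, fun i => ?_, fun j => ?_⟩
  · have h := hy i
    simp only [← hY, ← hc, sum_smul_mk, Cotangent.mk_eq_mk_iff_sub_mem] at h
    simpa using h
  · have h := ha j
    simp only [← hc, ← map_mul, ← map_sum] at h
    exact h

theorem projective_cotangent (h : HasLocalBases E.ker) :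
    Module.Finite B E.Cotangent ∧ Module.Projective B E.Cotangent := by
  classical
  obtain ⟨m, z, hz⟩ := Submodule.fg_iff_exists_fin_generating_family.1 h.fg
  have hzI : ∀ i, z i ∈ E.ker := fun i => hz.le (Submodule.subset_span ⟨i, rfl⟩)
  let π : (Fin m → B) →ₗ[B] E.Cotangent := Fintype.linearCombination B fun i => Cotangent.mk ⟨z i, hzI i⟩
  have hπ : Function.Surjective π := by
    rw [← LinearMap.range_eq_top, Fintype.range_linearCombination]
    exact Cotangent.span_eq_top_of_span_eq_ker z hz
  let K : Submodule E.Ring (Fin m → E.Ring) :=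
    Submodule.comap (Fintype.linearCombination E.Ring z) (E.ker ^ 2)
  have hK : ∀ b, b ∈ K ↔ ∑ i, b i * z i ∈ E.ker ^ 2 := fun b => by
    simp [K, Fintype.linearCombination_apply]
  obtain ⟨T, hT⟩ := h.fg_relations z hz K hK
  have hker : LinearMap.ker π = Submodule.span B
      ((fun b : Fin m → E.Ring => fun i => algebraMap E.Ring B (b i)) '' (T : Set (Fin m → E.Ring))) := by
    have hπb : ∀ b : Fin m → E.Ring, π (fun i => algebraMap E.Ring B (b i)) = 0 ↔ b ∈ K := fun b => by
      simp only [π, Fintype.linearCombination_apply, hK]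
      rw [sum_smul_mk E b fun i => ⟨z i, hzI i⟩, Cotangent.mk_eq_zero_iff]
      simp
    refine le_antisymm (fun f hf => ?_) (Submodule.span_le.2 ?_)
    · choose b hb using fun i => E.algebraMap_surjective (f i)
      obtain rfl : (fun i => algebraMap E.Ring B (b i)) = f := funext hb
      let L : (Fin m → E.Ring) →ₗ[E.Ring] (Fin m → B) := (Algebra.linearMap E.Ring B).compLeft (Fin m)
      have hb' : L b ∈ Submodule.span E.Ring (L '' (T : Set (Fin m → E.Ring))) := by
        rw [← Submodule.map_span, hT]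
        exact Submodule.mem_map_of_mem ((hπb b).1 hf)
      exact Submodule.span_le_restrictScalars E.Ring B _ hb'
    · rintro _ ⟨b, hb, rfl⟩
      exact (hπb b).2 (hT.le (Submodule.subset_span hb))
  have : Module.Finite B E.Cotangent := Module.Finite.of_surjective π hπ
  have : Module.FinitePresentation B E.Cotangent := Module.finitePresentation_of_surjective π hπ (by
    rw [hker]; exact Submodule.fg_span (T.finite_toSet.image _))
  have := flat_cotangent E h.conormalFlat
  exact ⟨inferInstance, Module.Flat.projective_of_finitePresentation⟩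

end Extension

end Groth.Agent.NLAmp
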