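import Groth.Agent.NLAmp.Conormal
import Groth.Agent.RegLocus.Smooth
import Mathlib.RingTheory.Localization.Ideal
import Mathlib.RingTheory.Localization.AtPrime.Basic
import Mathlib.RingTheory.LocalRing.ResidueField.Basic
import Mathlib.LinearAlgebra.Matrix.NonsingularInverse

/-!
# Minimal generators, intersections with the base, and the fibre of affine space at a point
-/

set_option autoImplicit false

noncomputable section

universe u

open IsLocalRing

namespace Groth.Agent.NLAmp

variable {P : Type u} [CommRing P] {I : Ideal P} (q : Ideal P) [q.IsPrime]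

local notation "S" => Localization.AtPrime q

theorem exists_mem_mul {x : S} (hx : x ∈ I.map (algebraMap P S)) :
    ∃ (a : P) (u : S), a ∈ I ∧ IsUnit u ∧ algebraMap P S a = x * u := by
  obtain ⟨⟨⟨a, ha⟩, t⟩, h⟩ := (IsLocalization.mem_map_algebraMap_iff q.primeCompl S).1 hx
  exact ⟨a, _, ha, IsLocalization.map_units S t, h.symm⟩

/-- Minimal generators are independent modulo the square. -/
theorem exists_minimal_generators (hI : I.FG) (hflat : ConormalFlat I) :
    ∃ (r : ℕ) (x : Fin r → P), (∀ i, x i ∈ I) ∧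
      Ideal.span (Set.range fun i => algebraMap P S (x i)) = I.map (algebraMap P S) ∧
      ∀ a : Fin r → S, ∑ i, a i * algebraMap P S (x i) ∈ I.map (algebraMap P S) ^ 2 →
        ∀ i, a i ∈ I.map (algebraMap P S) := by
  classical
  let J := I.map (algebraMap P S)
  have hex : ∃ r, ∃ x : Fin r → P, (∀ i, x i ∈ I) ∧ Ideal.span (Set.range fun i => algebraMap P S (x i)) = J := by
    obtain ⟨m, z, hz⟩ := Submodule.fg_iff_exists_fin_generating_family.1 hI
    refine ⟨m, z, fun i => hz.le (Submodule.subset_span ⟨i, rfl⟩), ?_⟩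
    rw [show (Set.range fun i => algebraMap P S (z i)) = algebraMap P S '' Set.range z from Set.range_comp _ _,
      ← Ideal.map_span]
    exact congrArg (Ideal.map (algebraMap P S)) hz
  obtain ⟨r, hmin, x, hxI, hxJ⟩ : ∃ r, (∀ r' < r, ¬ ∃ x : Fin r' → P, (∀ i, x i ∈ I) ∧
      Ideal.span (Set.range fun i => algebraMap P S (x i)) = J) ∧
      ∃ x : Fin r → P, (∀ i, x i ∈ I) ∧ Ideal.span (Set.range fun i => algebraMap P S (x i)) = J :=
    ⟨Nat.find hex, fun r' h => Nat.find_min hex h, Nat.find_spec hex⟩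
  refine ⟨r, x, hxI, hxJ, ?_⟩
  intro a ha
  obtain ⟨t, ht⟩ := IsLocalization.exist_integer_multiples_of_finite q.primeCompl a
  choose b hb using ht
  have h2 : algebraMap P S (∑ i, b i * x i) ∈ (I ^ 2).map (algebraMap P S) := by
    rw [Ideal.map_pow, map_sum]
    have : ∑ i, algebraMap P S (b i * x i) = algebraMap P S t * ∑ i, a i * algebraMap P S (x i) := by
      rw [Finset.mul_sum]
      refine Finset.sum_congr rfl fun i _ => ?_
      rw [map_mul, hb, Algebra.smul_def, mul_assoc]
    rw [this]
    exact Ideal.mul_mem_left _ _ ha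
  obtain ⟨t', ht', hrel⟩ := (IsLocalization.algebraMap_mem_map_algebraMap_iff q.primeCompl S _ _).1 h2
  obtain ⟨k, c, y, hy, hc, hbc⟩ := hflat r (fun i => t' * b i) x hxI (by
    simpa [Finset.mul_sum, mul_assoc] using hrel)
  choose d hd using fun j => Ideal.mem_span_range_iff_exists_fun.1 (hxJ.ge (Ideal.mem_map_of_mem (algebraMap P S) (hy j)))
  let M : Matrix (Fin r) (Fin r) S := fun i l => ∑ j, algebraMap P S (c i j) * d j l
  have hM : ∀ i, ∃ e : Fin r → S, (∀ l, e l ∈ J) ∧ algebraMap P S (x i) = ∑ l, (M i l + e l) * algebraMap P S (x l) := by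
    intro i
    have h1 : algebraMap P S (x i - ∑ j, c i j * y j) ∈ J • Ideal.span (Set.range fun l => algebraMap P S (x l)) := by
      rw [hxJ, smul_eq_mul, ← pow_two, ← Ideal.map_pow]
      exact Ideal.mem_map_of_mem _ (hc i)
    obtain ⟨e, he, hsum⟩ := (Submodule.mem_ideal_smul_span_iff_exists_sum J _ _).1 h1
    refine ⟨e, he, ?_⟩
    rw [Finsupp.sum_fintype _ _ (fun _ => by simp)] at hsum
    simp only [smul_eq_mul, map_sub, map_sum, map_mul, ← hd] at hsum
    simp only [add_mul, Finset.sum_add_distrib, hsum, M, Finset.sum_mul, Finset.mul_sum, mul_assoc]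
    rw [Finset.sum_comm]
    ring
  choose e he hxe using hM
  by_cases hJtop : J = ⊤
  · intro i
    show a i ∈ J
    rw [hJtop]
    exact Submodule.mem_top
  have hJm : J ≤ maximalIdeal S := le_maximalIdeal hJtop
  have hsmall : ∀ i l, (1 : Matrix (Fin r) (Fin r) S) i l - (M i l + e i l) ∈ maximalIdeal S := by
    intro i l
    by_contra hu
    rw [mem_maximalIdeal, mem_nonunits_iff, not_not] at hu
    have h0 : ∑ m, ((1 : Matrix (Fin r) (Fin r) S) i m - (M i m + e i m)) * algebraMap P S (x m) = 0 := by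
      simp only [sub_mul, Finset.sum_sub_distrib, ← hxe]
      simp [Matrix.one_apply]
    obtain ⟨r', hr'⟩ : ∃ r', r = r' + 1 := ⟨r - 1, by have := l.2; omega⟩
    let x' : Fin r' → P := fun m => x (Fin.cast hr'.symm ((Fin.cast hr' l).succAbove m))
    refine hmin r' (by omega) ⟨x', fun m => hxI _, le_antisymm ?_ ?_⟩
    · exact Ideal.span_le.2 (Set.range_subset_iff.2 fun m => Ideal.mem_map_of_mem _ (hxI _))
    · rw [show J = _ from hxJ.symm, Ideal.span_le]
      have hne : ∀ m, m ≠ l → algebraMap P S (x m) ∈ Ideal.span (Set.range fun m => algebraMap P S (x' m)) := by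
        intro m hm
        obtain ⟨m', hm'⟩ := Fin.exists_succAbove_eq (x := Fin.cast hr' m) (y := Fin.cast hr' l)
          (fun h => hm (Fin.ext (by simpa [eq_comm] using congrArg Fin.val h)))
        refine Ideal.subset_span ⟨m', ?_⟩
        show algebraMap P S (x (Fin.cast hr'.symm ((Fin.cast hr' l).succAbove m'))) = _
        rw [hm']
        rfl
      rintro _ ⟨m, rfl⟩
      by_cases hm : m = l
      · subst hm
        rw [← Finset.add_sum_erase _ _ (Finset.mem_univ m), add_eq_zero_iff_eq_neg] at h0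
        refine (Ideal.unit_mul_mem_iff_mem _ hu).1 ?_
        rw [h0]
        exact neg_mem (Ideal.sum_mem _ fun m' hm' => Ideal.mul_mem_left _ _ (hne m' (Finset.ne_of_mem_erase hm')))
      · exact hne m hm
  have hdet : IsUnit M.det := by
    refine (isUnit_map_iff (residue S) _).1 ?_
    rw [RingHom.map_det]
    have : (residue S).mapMatrix M = 1 := by
      refine Matrix.ext fun i l => ?_
      have h1 := (residue_eq_zero_iff _).2 (hsmall i l)
      rw [map_sub, map_add, (residue_eq_zero_iff _).2 (hJm (he i l)), add_zero, sub_eq_zero] at h1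
      rw [RingHom.mapMatrix_apply, Matrix.map_apply, ← h1]
      simp only [Matrix.one_apply]
      split_ifs <;> simp
    rw [this, Matrix.det_one]
    exact isUnit_one
  let v : Fin r → S := fun i => algebraMap P S (t' * b i)
  have hv : ∀ l, Matrix.vecMul v M l ∈ J := by
    intro l
    simp only [Matrix.vecMul, dotProduct, M, Finset.mul_sum, v, ← mul_assoc]
    rw [Finset.sum_comm]
    simp only [← Finset.sum_mul, ← map_mul, ← map_sum]
    exact Ideal.sum_mem _ fun j _ => Ideal.mul_mem_right _ _ (Ideal.mem_map_of_mem _ (hbc j))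
  intro i
  have hvi : v i ∈ J := by
    have : v = Matrix.vecMul (Matrix.vecMul v M) M⁻¹ := by
      rw [Matrix.vecMul_vecMul, Matrix.mul_nonsing_inv _ hdet, Matrix.vecMul_one]
    rw [this]
    simp only [Matrix.vecMul_eq_sum, Finset.sum_apply]
    exact Ideal.sum_mem _ fun l _ => by simpa [Matrix.vecMul_eq_sum, Finset.sum_apply] using Ideal.mul_mem_right _ J (hv l)
  simp only [v, map_mul, hb, Algebra.smul_def, ← mul_assoc] at hvi
  exact (Ideal.unit_mul_mem_iff_mem _ ((IsLocalization.map_units S ⟨t', ht'⟩).mul (IsLocalization.map_units S t))).1 hvi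

variable {A : Type u} [CommRing A] [Algebra A P]

/-- Flatness of the quotient: `I ∩ pP = pI`. -/
theorem inter_le_mul [Module.Flat A (P ⧸ I)] (p : Ideal A) :
    I ⊓ p.map (algebraMap A P) ≤ p.map (algebraMap A P) * I := by
  intro x hx
  obtain ⟨hxI, hxp⟩ := hx
  rw [SetLike.mem_coe, Ideal.map, Ideal.span, Submodule.mem_span_set'] at hxp
  obtain ⟨l, f, g, hsum⟩ := hxp
  choose c hc hcg using fun i => (g i).2
  replace hsum : ∑ i, c i • f i = x := by
    rw [← hsum]
    exact Finset.sum_congr rfl fun i _ => by rw [← hcg, Algebra.smul_def, smul_eq_mul, mul_comm]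
  have h0 : ∑ i, c i • Ideal.Quotient.mk I (f i) = 0 := by
    rw [← (Ideal.Quotient.eq_zero_iff_mem (I := I)).2 hxI, ← hsum, map_sum]
    exact Finset.sum_congr rfl fun i _ => rfl
  obtain ⟨k, a, y, hy, ha⟩ := Module.Flat.isTrivialRelation_of_sum_smul_eq_zero (R := A) (M := P ⧸ I) (f := c) (x := fun i => Ideal.Quotient.mk I (f i)) (by convert h0 using 2)
  choose Y hY using fun j => Ideal.Quotient.mk_surjective (y j)
  have hx' : x = ∑ i, algebraMap A P (c i) * (f i - ∑ j, a i j • Y j) := by
    simp only [mul_sub, ← Algebra.smul_def, Finset.sum_sub_distrib, hsum, Finset.smul_sum, smul_smul]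
    rw [Finset.sum_comm]
    simp only [← Finset.sum_smul, ha, zero_smul, Finset.sum_const_zero, sub_zero]
  rw [hx']
  refine Ideal.sum_mem _ fun i _ => Ideal.mul_mem_mul (Ideal.mem_map_of_mem _ (hc i)) ?_
  rw [← Ideal.Quotient.eq_zero_iff_mem, map_sub, map_sum, show Ideal.Quotient.mk I (f i) = ∑ j, a i j • y j from hy i, sub_eq_zero]
  exact Finset.sum_congr rfl fun j _ => by rw [← hY]; rfl

theorem inter_le_mul_localization [Module.Flat A (P ⧸ I)] (p : Ideal A) :
    I.map (algebraMap P S) ⊓ p.map (algebraMap A S) ≤ p.map (algebraMap A S) * I.map (algebraMap P S) := by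
  have hp : p.map (algebraMap A S) = (p.map (algebraMap A P)).map (algebraMap P S) := by
    rw [Ideal.map_map, ← IsScalarTower.algebraMap_eq]
  rw [hp]
  intro z hz
  obtain ⟨hzI, hzp⟩ := hz
  obtain ⟨a, u, ha, hu, hau⟩ := exists_mem_mul q hzI
  have h1 : algebraMap P S a ∈ (p.map (algebraMap A P)).map (algebraMap P S) := hau ▸ Ideal.mul_mem_right _ _ hzp
  obtain ⟨t, ht, hta⟩ := (IsLocalization.algebraMap_mem_map_algebraMap_iff q.primeCompl S _ _).1 h1
  have h2 := Ideal.mem_map_of_mem (algebraMap P S) (inter_le_mul (I := I) p ⟨Ideal.mul_mem_left _ t ha, hta⟩)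
  rw [map_mul, hau, Ideal.map_mul, mul_comm z u, ← mul_assoc] at h2
  exact (Ideal.unit_mul_mem_iff_mem _ ((IsLocalization.map_units S ⟨t, ht⟩).mul hu)).1 h2

omit [Algebra A P] in
/-- Localisations commute with quotients. -/
theorem nonempty_localization_quotient {P' : Type u} [CommRing P'] (ψ : P →+* P') (hψ : Function.Surjective ψ)
    (q' : Ideal P') [q'.IsPrime] (hq : q'.comap ψ = q) :
    Nonempty ((S ⧸ (RingHom.ker ψ).map (algebraMap P S)) ≃+* Localization.AtPrime q') := by
  let φ : S →+* Localization.AtPrime q' := Localization.localRingHom q q' ψ hq.symm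
  have hφ : ∀ a, φ (algebraMap P S a) = algebraMap P' _ (ψ a) := Localization.localRingHom_to_map _ _ _ _
  have hker : RingHom.ker φ = (RingHom.ker ψ).map (algebraMap P S) := by
    refine le_antisymm (fun z hz => ?_) (Ideal.map_le_iff_le_comap.2 fun a ha => by
      rw [Ideal.mem_comap, RingHom.mem_ker, hφ, RingHom.mem_ker.1 ha, map_zero])
    obtain ⟨a, t, rfl⟩ := IsLocalization.exists_mk'_eq q.primeCompl z
    have h0 : algebraMap P' (Localization.AtPrime q') (ψ a) = 0 := by
      rw [← hφ, ← IsLocalization.mk'_spec S a t, map_mul, RingHom.mem_ker.1 hz, zero_mul]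
    obtain ⟨⟨t', ht'⟩, ht'a⟩ := (IsLocalization.map_eq_zero_iff q'.primeCompl _ _).1 h0
    obtain ⟨s, rfl⟩ := hψ t'
    rw [IsLocalization.mk'_mem_map_algebraMap_iff]
    exact ⟨s, fun h => ht' (by rw [← hq] at h; exact h), RingHom.mem_ker.2 (by rw [map_mul]; exact ht'a)⟩
  have hsurj : Function.Surjective φ := by
    intro w
    obtain ⟨b, t, rfl⟩ := IsLocalization.exists_mk'_eq q'.primeCompl w
    obtain ⟨a, rfl⟩ := hψ b
    obtain ⟨s, hs⟩ := hψ t
    have hsq : s ∈ q.primeCompl := fun h => t.2 (show (t : P') ∈ q' by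
      rw [SetLike.mem_coe, ← hq, Ideal.mem_comap, hs] at h
      exact h)
    refine ⟨IsLocalization.mk' S a ⟨s, hsq⟩, ?_⟩
    rw [Localization.localRingHom_mk']
    congr 1
    exact Subtype.ext hs
  exact ⟨(Ideal.quotEquivOfEq hker.symm).trans (RingHom.quotientKerEquivOfSurjective hsurj)⟩

/-- Local rings of affine space over a field, in the form `P_q / pP_q`. -/
theorem isRegularLocalRing_fibre (A : Type u) [CommRing A] (n : ℕ) (q : Ideal (MvPolynomial (Fin n) A)) [q.IsPrime] :
    IsRegularLocalRing (Localization.AtPrime q ⧸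
      (q.comap (algebraMap A (MvPolynomial (Fin n) A))).map (algebraMap A (Localization.AtPrime q))) := by
  set p := q.comap (algebraMap A (MvPolynomial (Fin n) A))
  let ψ : MvPolynomial (Fin n) A →+* MvPolynomial (Fin n) (A ⧸ p) := MvPolynomial.map (Ideal.Quotient.mk p)
  have hψ : Function.Surjective ψ := MvPolynomial.map_surjective _ Ideal.Quotient.mk_surjective
  have hker : RingHom.ker ψ = p.map (algebraMap A (MvPolynomial (Fin n) A)) := by
    rw [MvPolynomial.ker_map, Ideal.mk_ker, MvPolynomial.algebraMap_eq]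
  have hle : RingHom.ker ψ ≤ q := by
    rw [hker]; exact Ideal.map_comap_le
  let q' := q.map ψ
  have : q'.IsPrime := Ideal.map_isPrime_of_surjective hψ hle
  have hq : q'.comap ψ = q := by
    rw [Ideal.comap_map_of_surjective ψ hψ, ← RingHom.ker_eq_comap_bot]
    exact sup_eq_left.2 hle
  have : Fact (q'.comap (algebraMap (A ⧸ p) (MvPolynomial (Fin n) (A ⧸ p))) = ⊥) := ⟨by
    refine eq_bot_iff.2 fun a ha => ?_
    obtain ⟨a, rfl⟩ := Ideal.Quotient.mk_surjective a
    have : algebraMap A (MvPolynomial (Fin n) A) a ∈ q := by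
      rw [← hq, Ideal.mem_comap]
      simpa [ψ, MvPolynomial.algebraMap_eq] using ha
    exact (Submodule.Quotient.mk_eq_zero _).2 this⟩
  have hreg : IsRegularLocalRing (Localization.AtPrime q') := by
    refine RegLocus.regular_mvPolynomial (A ⧸ p) n q' (RegLocus.regular_congr (Fact.out (p := _ = ⊥)).symm ?_)
    have hM : (⊥ : Ideal (A ⧸ p)).primeCompl = nonZeroDivisors (A ⧸ p) := by
      ext a
      simp [Ideal.primeCompl, mem_nonZeroDivisors_iff_ne_zero]
    have : IsLocalization (⊥ : Ideal (A ⧸ p)).primeCompl (FractionRing (A ⧸ p)) := by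
      rw [hM]; infer_instance
    exact IsRegularLocalRing.of_ringEquiv (R := FractionRing (A ⧸ p))
      (IsLocalization.algEquiv (⊥ : Ideal (A ⧸ p)).primeCompl (FractionRing (A ⧸ p)) (Localization.AtPrime (⊥ : Ideal (A ⧸ p)))).toRingEquiv
  obtain ⟨e⟩ := nonempty_localization_quotient q ψ hψ q' hq
  have hp : p.map (algebraMap A (Localization.AtPrime q)) = (RingHom.ker ψ).map (algebraMap _ (Localization.AtPrime q)) := by
    rw [hker, Ideal.map_map, ← IsScalarTower.algebraMap_eq]
  rw [hp]
  exact IsRegularLocalRing.of_ringEquiv e.symm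

end Groth.Agent.NLAmp
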